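import Groth.Agent.H11Proj.AwayOne
import Groth.Agent.H11Proj.AwayFP
import Groth.Agent.H11Sym.ProjChart
import Mathlib

/-!
# Symmetric algebras of projective modules and their degree-zero localizations are smooth
-/

set_option autoImplicit false
set_option linter.style.haveILetI false

noncomputable section

universe u

open HomogeneousLocalization

namespace Groth.Agent.H17.ProjSmooth

section sym

variable {R M A : Type u} [CommRing R] [AddCommGroup M] [Module R M] [CommRing A] [Algebra R A]
variable {j : M →ₗ[R] A} (hj : IsSymmetricAlgebra j)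

include hj in
theorem formallySmooth_symmetric [Module.Projective R M] : Algebra.FormallySmooth R A := by
  refine Algebra.FormallySmooth.of_comp_surjective fun B _ _ I _ g => ?_
  obtain ⟨l, hl⟩ := Module.projective_lifting_property (Ideal.Quotient.mkₐ R I).toLinearMap
    (g.toLinearMap ∘ₗ j) Ideal.Quotient.mk_surjective
  refine ⟨hj.lift l, AlgHom.ext fun a => ?_⟩
  induction a using hj.induction with
  | algebraMap r => simp
  | ι m =>
    rw [AlgHom.comp_apply, IsSymmetricAlgebra.lift_eq]
    exact LinearMap.congr_fun hl m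
  | mul a b ha hb => rw [map_mul, map_mul, ha, hb]
  | add a b ha hb => rw [map_add, map_add, ha, hb]

include hj in
theorem finitePresentation_symmetric [Module.Finite R M] [Module.Projective R M] :
    Algebra.FinitePresentation R A := by
  classical
  obtain ⟨n, π₀, hπ₀⟩ := Module.Finite.exists_fin' R M
  obtain ⟨σ₀, hσ₀⟩ := π₀.exists_rightInverse_of_surjective (LinearMap.range_eq_top.2 hπ₀)
  let P := MvPolynomial (Fin n) R
  let e : Fin n → Fin n → R := fun i => Pi.single i 1
  let π : P →ₐ[R] A := MvPolynomial.aeval fun i => j (π₀ (e i))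
  let σ : A →ₐ[R] P := hj.lift ((Fintype.linearCombination R fun i => (MvPolynomial.X i : P)) ∘ₗ σ₀)
  have hπ : ∀ v : Fin n → R, π (Fintype.linearCombination R (fun i => (MvPolynomial.X i : P)) v) = j (π₀ v) := by
    intro v
    conv_rhs => rw [pi_eq_sum_univ' v, map_sum, map_sum]
    rw [Fintype.linearCombination_apply, map_sum]
    refine Finset.sum_congr rfl fun i _ => ?_
    rw [map_smul, map_smul, map_smul, MvPolynomial.aeval_X]
  have hπσ : ∀ a, π (σ a) = a := fun a => by
    induction a using hj.induction with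
    | algebraMap r => simp
    | ι m =>
      rw [IsSymmetricAlgebra.lift_eq, LinearMap.comp_apply, hπ]
      exact congrArg j (LinearMap.congr_fun hσ₀ m)
    | mul a b ha hb => rw [map_mul, map_mul, ha, hb]
    | add a b ha hb => rw [map_add, map_add, ha, hb]
  have hs : Function.Surjective π := fun a => ⟨σ a, hπσ a⟩
  refine Algebra.FinitePresentation.of_surjective hs ?_
  let K : Ideal P := Ideal.span ((Finset.univ.image fun i => MvPolynomial.X i - σ (π (MvPolynomial.X i)) : Finset P) : Set P)
  refine ⟨Finset.univ.image fun i => MvPolynomial.X i - σ (π (MvPolynomial.X i)), le_antisymm ?_ fun p hp => ?_⟩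
  · refine Ideal.span_le.2 fun p hp => ?_
    obtain ⟨i, -, rfl⟩ := Finset.mem_image.1 hp
    show π (MvPolynomial.X i - σ (π (MvPolynomial.X i))) = 0
    rw [map_sub, hπσ, sub_self]
  · have hK : ∀ p : P, Ideal.Quotient.mk K p = Ideal.Quotient.mk K (σ (π p)) := fun p => by
      induction p using MvPolynomial.induction_on with
      | C r => rw [← MvPolynomial.algebraMap_eq, AlgHom.commutes, AlgHom.commutes]
      | add a b ha hb => simp only [map_add, ha, hb]
      | mul_X a i ha =>
        simp only [map_mul, ha]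
        congr 1
        exact Ideal.Quotient.eq.2 (Ideal.subset_span (Finset.mem_coe.2 (Finset.mem_image_of_mem _ (Finset.mem_univ i))))
    have hp' : π p = 0 := hp
    have h0 := hK p
    rw [hp', map_zero, map_zero] at h0
    exact Ideal.Quotient.eq_zero_iff_mem.1 h0

end sym

variable {A σA : Type u} [CommRing A] [SetLike σA A] [AddSubgroupClass σA A] (𝒜 : ℕ → σA) [GradedRing 𝒜]
variable {R : Type u} [CommRing R] {f : A} (hf : f ∈ 𝒜 1)

include hf in
/-- The degree-zero localization of a smooth graded algebra at an element of degree one is smooth. -/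
theorem smooth_away (s : R →+* 𝒜 0) (hs : ((algebraMap (𝒜 0) A).comp s).Smooth) :
    ((fromZeroRingHom 𝒜 (Submonoid.powers f)).comp s).Smooth := by
  rw [RingHom.smooth_def] at hs ⊢
  refine ⟨?_, H11Proj.AwayDeg.finitePresentation_away 𝒜 hf one_pos s hs.2⟩
  letI : Algebra R A := ((algebraMap (𝒜 0) A).comp s).toAlgebra
  letI : Algebra R (Away 𝒜 f) := ((fromZeroRingHom 𝒜 (Submonoid.powers f)).comp s).toAlgebra
  haveI : Algebra.FormallySmooth R A := hs.1
  show Algebra.FormallySmooth R (Away 𝒜 f)
  let π : A →ₐ[R] Away 𝒜 f :=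
    { H11Proj.awayProjHom 𝒜 hf with commutes' := fun r => H11Proj.awayProjHom_zero 𝒜 hf (s r) }
  refine Algebra.FormallySmooth.of_comp_surjective fun B _ _ I hI g => ?_
  obtain ⟨t, ht⟩ := Algebra.FormallySmooth.comp_surjective R A I hI (g.comp π)
  have ht' : ∀ a, Ideal.Quotient.mk I (t a) = g (π a) := fun a => AlgHom.congr_fun ht a
  have hu : IsUnit (t f) := by
    have h1 : Ideal.Quotient.mk I (t f) = 1 := by
      rw [ht']
      show g (H11Proj.awayProjHom 𝒜 hf f) = 1
      rw [H11Proj.awayProjHom_self, map_one]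
    have h2 : t f - 1 ∈ I := by
      rw [← Ideal.Quotient.eq_zero_iff_mem, map_sub, h1, map_one, sub_self]
    rw [← add_sub_cancel 1 (t f)]
    refine IsNilpotent.isUnit_one_add ⟨2, ?_⟩
    have := Ideal.pow_mem_pow h2 2
    rwa [hI, Ideal.mem_bot] at this
  let ψ := H11Sym.awayHom 𝒜 t.toRingHom hu
  refine ⟨{ ψ with commutes' := fun r => ?_ }, AlgHom.ext fun z => ?_⟩
  · have h := H11Sym.awayHom_mk 𝒜 t.toRingHom hu hf 0 (s r : A) (by rw [zero_smul]; exact (s r).2)
    rw [pow_zero, mul_one] at h
    refine Eq.trans ?_ (t.commutes r)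
    refine Eq.trans (congrArg ψ ?_) h
    refine (H11Proj.awayProjHom_zero 𝒜 hf (s r)).symm.trans ?_
    exact H11Proj.awayProjHom_mk 𝒜 hf _
  · obtain ⟨n, a, ha, rfl⟩ := Away.mk_surjective 𝒜 hf z
    have h := congrArg (Ideal.Quotient.mk I) (H11Sym.awayHom_mk 𝒜 t.toRingHom hu hf n a ha)
    rw [map_mul, map_pow] at h
    change Ideal.Quotient.mk I (ψ (Away.mk 𝒜 hf n a ha)) * Ideal.Quotient.mk I (t f) ^ n =
      Ideal.Quotient.mk I (t a) at h
    rw [ht', ht'] at h
    change _ * g (H11Proj.awayProjHom 𝒜 hf f) ^ n = g (H11Proj.awayProjHom 𝒜 hf a) at h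
    rw [H11Proj.awayProjHom_self, map_one, one_pow, mul_one, H11Proj.awayProjHom_mk 𝒜 hf ha] at h
    exact h

end Groth.Agent.H17.ProjSmooth
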