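import Groth.Agent.S1468
import Groth.Agent.S9250
import Mathlib

/-!
# Schemes smooth over regular schemes are regular
-/

set_option autoImplicit false
set_option linter.style.haveILetI false

universe u

open CategoryTheory AlgebraicGeometry TopologicalSpace

namespace Groth.Agent.H17.ProjSmooth

theorem isRegularRing_sections {B : Scheme.{u}} [IsLocallyNoetherian B]
    (hB : ∀ b : B, IsRegularLocalRing (B.presheaf.stalk b)) {U : B.Opens} (hU : IsAffineOpen U) :
    IsRegularRing Γ(B, U) := by
  haveI : IsNoetherianRing Γ(B, U) := IsLocallyNoetherian.component_noetherian ⟨U, hU⟩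
  refine isRegularRing_iff.mpr fun p hp => ?_
  let y := hU.fromSpec ⟨p, hp⟩
  have hy : y ∈ U := hU.range_fromSpec.le ⟨⟨p, hp⟩, rfl⟩
  have hpr : hU.primeIdealOf ⟨y, hy⟩ = ⟨p, hp⟩ := by
    apply hU.fromSpec.isOpenEmbedding.injective
    rw [hU.fromSpec_primeIdealOf]
  let := (B.presheaf.germ U y hy).hom.toAlgebra
  have h1 := hU.isLocalization_stalk ⟨y, hy⟩
  rw [hpr] at h1
  have := hB y
  exact IsRegularLocalRing.of_ringEquiv
    (IsLocalization.algEquiv p.primeCompl (B.presheaf.stalk y) (Localization.AtPrime p)).toRingEquiv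

/-- A scheme smooth over a regular scheme is regular. -/
theorem isRegularLocalRing_stalk_of_smooth {A B : Scheme.{u}} (g : A ⟶ B) [Smooth g] [IsLocallyNoetherian B]
    (hB : ∀ b : B, IsRegularLocalRing (B.presheaf.stalk b)) (x : A) :
    IsRegularLocalRing (A.presheaf.stalk x) := by
  haveI : IsLocallyNoetherian A := LocallyOfFiniteType.isLocallyNoetherian g
  obtain ⟨U, hU, hxU, -⟩ := Opens.isBasis_iff_nbhd.mp B.isBasis_affineOpens (Opens.mem_top (g x))
  obtain ⟨V, hV, hxV, e⟩ := Opens.isBasis_iff_nbhd.mp A.isBasis_affineOpens (show x ∈ g ⁻¹ᵁ U from hxU)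
  haveI := isRegularRing_sections hB hU
  haveI : IsNoetherianRing Γ(A, V) := IsLocallyNoetherian.component_noetherian ⟨V, hV⟩
  letI := (g.appLE U V e).hom.toAlgebra
  haveI := S9250.result Γ(B, U) Γ(A, V) (S1468.result g V U hV hU e)
  let := (A.presheaf.germ V x hxV).hom.toAlgebra
  have := hV.isLocalization_stalk ⟨x, hxV⟩
  haveI : IsRegularLocalRing (Localization.AtPrime (hV.primeIdealOf ⟨x, hxV⟩).asIdeal) :=
    IsRegularRing.isRegularLocalRing_localization _
  exact IsRegularLocalRing.of_ringEquiv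
    (IsLocalization.algEquiv (hV.primeIdealOf ⟨x, hxV⟩).asIdeal.primeCompl
      (Localization.AtPrime (hV.primeIdealOf ⟨x, hxV⟩).asIdeal) (A.presheaf.stalk x)).toRingEquiv

end Groth.Agent.H17.ProjSmooth
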