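import Groth.Agent.H17.ProjSmooth.Main
import Groth.Agent.H17.ProjSmooth.Regular
import Groth.Agent.S1109
import Groth.Agent.H10Coh.QCohOps
import Groth.Agent.H11Sym.DegPiece

/-!
# Projective morphisms to regular schemes factor through smooth projective bundles
-/

set_option autoImplicit false
set_option linter.style.haveILetI false

noncomputable section

universe u

open CategoryTheory CategoryTheory.Limits AlgebraicGeometry TopologicalSpace Opposite

namespace Groth.Agent.H17.ProjSmooth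

variable {X S : Scheme.{u}}

/-- A projective morphism to a regular separated Noetherian scheme embeds in a smooth projective one. -/
theorem exists_smooth_projective_embedding (f : X ⟶ S) [IsNoetherian S] [S.IsSeparated]
    (hS : ∀ s : S, IsRegularLocalRing (S.presheaf.stalk s)) (hf : RelProj.IsProjective f) :
    ∃ (P : Scheme.{u}) (i : X ⟶ P) (p : P ⟶ S), IsClosedImmersion i ∧ Smooth p ∧ RelProj.IsProjective p ∧
      i ≫ p = f := by
  obtain ⟨𝒮, PS, pS, chartS, e, hgen, hft, hPS, he⟩ := hf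
  have hM : Coh.IsQCoh (H11Sym.degModule 𝒮 1) := H11Sym.isQCoh_degModule 𝒮 1
  obtain ⟨E, π, hE, hπ⟩ := S1109.result S hS (fun U V hU hV => hU.inf hV) (H11Sym.degModule 𝒮 1) hM
    (H11Sym.isFT_degModule 𝒮 1 hft)
  have hEq : Coh.IsQCoh E := H8Props.FinLocFree.isQCoh_of_isFinLocFree E hE
  obtain ⟨𝒯, j, hT⟩ := H11Sym.exists_isGrSymAlg E hEq
  obtain ⟨P, p, chart, hP⟩ := H11Proj.exists_isRelProj 𝒯
  obtain ⟨-, -, -, h, -, hh, hp, -⟩ := H11Sym.exists_isClosedImmersion_relProj hEq hT hgen (π ≫ H11Sym.degIncl 𝒮 1)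
    (fun U hU x => H11Sym.degIncl_mem 𝒮 1 hU (π.app U x))
    (fun U hU a ha => by
      obtain ⟨y, hy⟩ := H11Sym.exists_degIncl_eq 𝒮 1 hU ha
      haveI : E.IsQuasicoherent := hEq
      haveI : (H11Sym.degModule 𝒮 1).IsQuasicoherent := hM
      haveI := hπ
      obtain ⟨x, rfl⟩ := H10Coh.surjective_app_of_epi π hU y
      exact ⟨x, hy⟩) hP hPS
  have : IsClosedImmersion h := hh
  exact ⟨P, e.hom ≫ h, p, inferInstance, smooth_bundle hE hT hP,
    ⟨𝒯, P, p, chart, Iso.refl P, H11Sym.isGenDegOne hEq hT,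
      H11Sym.isFTDeg_one hEq (haveI : CohB1.IsFP E := H8Props.FinLocFree.isFP_of_isFinLocFree E hE; inferInstance) hT, hP, Category.id_comp p⟩,
    by rw [Category.assoc, hp, he]⟩

/-- A quasi-projective morphism to a regular separated Noetherian scheme factors through a closed immersion into a
smooth quasi-projective one. -/
theorem exists_smooth_quasiProjective_embedding (f : X ⟶ S) [IsNoetherian S] [S.IsSeparated]
    (hS : ∀ s : S, IsRegularLocalRing (S.presheaf.stalk s))
    (hf : ∃ (Z : Scheme.{u}) (v : X ⟶ Z) (q : Z ⟶ S), IsOpenImmersion v ∧ RelProj.IsProjective q ∧ v ≫ q = f) :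
    ∃ (W : Scheme.{u}) (i : X ⟶ W) (p : W ⟶ S), IsClosedImmersion i ∧ Smooth p ∧
      (∃ (P : Scheme.{u}) (v : W ⟶ P) (q : P ⟶ S), IsOpenImmersion v ∧ RelProj.IsProjective q ∧ v ≫ q = p) ∧
      i ≫ p = f := by
  obtain ⟨Z, v, q, hv, hq, rfl⟩ := hf
  obtain ⟨P, i, p, hi, hp, hpp, rfl⟩ := exists_smooth_projective_embedding q hS hq
  let W : P.Opens := ⟨(i.base '' (Set.range v.base)ᶜ)ᶜ,
    (i.isClosedEmbedding.isClosedMap _ v.isOpenEmbedding.isOpen_range.isClosed_compl).isOpen_compl⟩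
  have hiW : i ⁻¹ᵁ W = v.opensRange := by
    ext z
    show ¬ i.base z ∈ i.base '' (Set.range v.base)ᶜ ↔ z ∈ Set.range v.base
    rw [i.isClosedEmbedding.injective.mem_set_image]
    exact not_not
  have hr : Set.range (v ≫ i).base ⊆ Set.range W.ι.base := by
    rintro _ ⟨x, rfl⟩
    rw [Scheme.Opens.range_ι]
    exact hiW.ge ⟨x, rfl⟩
  refine ⟨W, IsOpenImmersion.lift W.ι (v ≫ i) hr, W.ι ≫ p, ?_, inferInstance, ⟨P, W.ι, p, inferInstance, hpp, rfl⟩,
    by rw [IsOpenImmersion.lift_fac_assoc, Category.assoc]⟩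
  have hl : IsOpenImmersion.lift W.ι (v ≫ i) hr =
      v.isoOpensRange.hom ≫ (Z.isoOfEq hiW.symm).hom ≫ i ∣_ W := by
    rw [← cancel_mono W.ι, IsOpenImmersion.lift_fac, Category.assoc, Category.assoc, morphismRestrict_ι,
      Scheme.isoOfEq_hom_ι_assoc, Scheme.Hom.isoOpensRange_hom_ι_assoc]
  rw [hl]
  infer_instance

end Groth.Agent.H17.ProjSmooth
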