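import Groth.Agent.H17.ProjSmooth.Algebra
import Groth.Agent.H11Sym.Bundle
import Groth.Agent.H11Proj.RelProjGlue
import Groth.Agent.H11Proj.DegOne
import Groth.Agent.H8Props.FinLocFree.Sheaf
import Mathlib

/-!
# The projective bundle of a finite locally free module is smooth
-/

set_option autoImplicit false
set_option linter.style.haveILetI false

noncomputable section

universe u

open CategoryTheory AlgebraicGeometry TopologicalSpace Opposite HomogeneousLocalization

namespace Groth.Agent.H17.ProjSmooth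

/-- `Proj` of a smooth graded algebra generated in degree one is smooth. -/
theorem smooth_proj {A σ : Type u} [CommRing A] [SetLike σ A] [AddSubgroupClass σ A] (𝒜 : ℕ → σ) [GradedRing 𝒜]
    {R : CommRingCat.{u}} (s : R ⟶ CommRingCat.of (𝒜 0))
    (hgen : Subring.closure ((𝒜 0 : Set A) ∪ (𝒜 1 : Set A)) = ⊤)
    (hs : ((algebraMap (𝒜 0) A).comp s.hom).Smooth) : Smooth (Proj.toSpecZero 𝒜 ≫ Spec.map s) := by
  have hspan : (HomogeneousIdeal.irrelevant 𝒜).toIdeal ≤ Ideal.span (Set.range fun x : 𝒜 1 => (x : A)) :=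
    H11Proj.irrelevant_le_span_of_adjoin_eq_top 𝒜 (by rintro _ ⟨x, rfl⟩; exact ⟨1, one_pos, x.2⟩)
      (H11Proj.adjoin_degZero_eq_top_of_closure 𝒜 hgen fun x hx => Algebra.subset_adjoin ⟨⟨x, hx⟩, rfl⟩)
  refine IsZariskiLocalAtSource.of_openCover (P := @Smooth)
    (Proj.affineOpenCoverOfIrrelevantLESpan (𝒜 := 𝒜) (ι := 𝒜 1) (m := fun _ => 1) (fun x => (x : A))
      (fun x => x.2) (fun _ => one_pos) hspan).openCover fun i => ?_
  change Smooth (Proj.awayι 𝒜 _ _ _ ≫ Proj.toSpecZero 𝒜 ≫ Spec.map s)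
  rw [Proj.awayι_toSpecZero_assoc, ← Spec.map_comp, HasRingHomProperty.Spec_iff (P := @Smooth)]
  exact smooth_away 𝒜 i.2 s.hom hs

variable {S P : Scheme.{u}} {E : S.Modules} {𝒯 : RelProj.QCGrAlg S} {j : E ⟶ 𝒯.toModule} {p : P ⟶ S}
  {chart : ∀ (U : S.Opens) (hU : IsAffineOpen U), (((p ⁻¹ᵁ U : P.Opens) : Scheme.{u}) ≅ Proj (𝒯.deg U hU))}

/-- The projective bundle of a finite locally free module is smooth. -/
theorem smooth_bundle (hE : FlatMod.IsFinLocFree E) (hT : RelProj.IsGrSymAlg E 𝒯 j)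
    (hP : RelProj.IsRelProj 𝒯 p chart) : Smooth p := by
  have hq : Coh.IsQCoh E := H8Props.FinLocFree.isQCoh_of_isFinLocFree E hE
  refine H11Proj.relProj_of_charts hP (Q := @Smooth) fun U hU => smooth_proj _ _ (H11Sym.isGenDegOne hq hT U hU) ?_
  letI := H11Sym.algOn 𝒯.toQCAlg U
  obtain ⟨_, _⟩ := H8Props.FinLocFree.finite_projective_sections E hE hU
  refine RingHom.smooth_algebraMap.2 (?_ : Algebra.Smooth Γ(S, U) (𝒯.presheaf.obj (op U)))
  exact ⟨formallySmooth_symmetric (hT.1.isAffSym hq U hU), finitePresentation_symmetric (hT.1.isAffSym hq U hU)⟩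

end Groth.Agent.H17.ProjSmooth
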